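import Mathlib.AlgebraicGeometry.Morphisms.Flat
import Mathlib.AlgebraicGeometry.ResidueField
import Mathlib.AlgebraicGeometry.PullbackCarrier
import Mathlib.RingTheory.Flat.FaithfullyFlat.Algebra
import Mathlib.RingTheory.RingHom.Flat

/-!
Common extensions of two base fields.
-/

universe u

open CategoryTheory Limits AlgebraicGeometry

namespace Groth.Agent.GeomRed

variable {k : Type u} [Field k] {X : Scheme.{u}} (f : X ⟶ Spec (CommRingCat.of k))

local notation "spm" K => Spec.map (CommRingCat.ofHom (algebraMap k K))

/-- The projection between base changes. -/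
noncomputable def trans (K L : Type u) [Field K] [Algebra k K] [Field L] [Algebra k L] [Algebra K L] [IsScalarTower k K L] :
    pullback f (spm L) ⟶ pullback f (spm K) :=
  pullback.lift (pullback.fst f (spm L)) (pullback.snd f (spm L) ≫ Spec.map (CommRingCat.ofHom (algebraMap K L))) (by
    rw [Category.assoc, ← Spec.map_comp, ← CommRingCat.ofHom_comp, ← IsScalarTower.algebraMap_eq]
    exact pullback.condition)

theorem trans_fst (K L : Type u) [Field K] [Algebra k K] [Field L] [Algebra k L] [Algebra K L] [IsScalarTower k K L] :
    trans f K L ≫ pullback.fst f (spm K) = pullback.fst f (spm L) := pullback.lift_fst _ _ _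

theorem trans_snd (K L : Type u) [Field K] [Algebra k K] [Field L] [Algebra k L] [Algebra K L] [IsScalarTower k K L] :
    trans f K L ≫ pullback.snd f (spm K) = pullback.snd f (spm L) ≫ Spec.map (CommRingCat.ofHom (algebraMap K L)) :=
  pullback.lift_snd _ _ _

theorem isPullback_trans (K L : Type u) [Field K] [Algebra k K] [Field L] [Algebra k L] [Algebra K L] [IsScalarTower k K L] :
    IsPullback (trans f K L) (pullback.snd f (spm L)) (pullback.snd f (spm K)) (Spec.map (CommRingCat.ofHom (algebraMap K L))) := by
  refine IsPullback.of_right ?_ (trans_snd f K L) (IsPullback.of_hasPullback f (spm K))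
  rw [trans_fst f K L, ← Spec.map_comp, ← CommRingCat.ofHom_comp, ← IsScalarTower.algebraMap_eq]
  exact IsPullback.of_hasPullback _ _

theorem flat_trans (K L : Type u) [Field K] [Algebra k K] [Field L] [Algebra k L] [Algebra K L] [IsScalarTower k K L] :
    Flat (trans f K L) := by
  have h : Flat (Spec.map (CommRingCat.ofHom (algebraMap K L))) := by
    rw [HasRingHomProperty.Spec_iff (P := @Flat)]
    exact RingHom.flat_algebraMap_iff.mpr inferInstance
  exact MorphismProperty.of_isPullback (P := @Flat) (isPullback_trans f K L).flip h

/-- Flat morphisms are injective on local rings. -/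
theorem stalkMap_injective {Y Z : Scheme.{u}} (p : Y ⟶ Z) [Flat p] (y : Y) : Function.Injective (p.stalkMap y).hom := by
  letI := (p.stalkMap y).hom.toAlgebra
  haveI : Module.Flat (Z.presheaf.stalk (p y)) (Y.presheaf.stalk y) := Flat.stalkMap p y
  haveI : IsLocalHom (algebraMap (Z.presheaf.stalk (p y)) (Y.presheaf.stalk y)) :=
    inferInstanceAs (IsLocalHom (p.stalkMap y).hom)
  haveI := Module.FaithfullyFlat.of_flat_of_isLocalHom (A := Z.presheaf.stalk (p y)) (B := Y.presheaf.stalk y)
  exact FaithfulSMul.algebraMap_injective (Z.presheaf.stalk (p y)) (Y.presheaf.stalk y)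

/-- Two points over the same point are dominated by a point of a common extension. -/
theorem exists_common (K K' : Type u) [Field K] [Algebra k K] [Field K'] [Algebra k K'] (z : ↥(pullback f (spm K)))
    (z' : ↥(pullback f (spm K'))) (h : pullback.fst f (spm K) z = pullback.fst f (spm K') z') :
    ∃ (L : Type u) (_ : Field L) (_ : Algebra k L) (_ : Algebra K L) (_ : Algebra K' L) (_ : IsScalarTower k K L)
      (_ : IsScalarTower k K' L) (u : ↥(pullback f (spm L))), trans f K L u = z ∧ trans f K' L u = z' := by
  obtain ⟨w, hw1, hw2⟩ := Scheme.Pullback.exists_preimage_pullback (f := pullback.fst f (spm K))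
    (g := pullback.fst f (spm K')) z z' h
  let W := pullback (pullback.fst f (spm K)) (pullback.fst f (spm K'))
  let L := W.residueField w
  let g := W.fromSpecResidueField w ≫ pullback.fst (pullback.fst f (spm K)) (pullback.fst f (spm K'))
  let g' := W.fromSpecResidueField w ≫ pullback.snd (pullback.fst f (spm K)) (pullback.fst f (spm K'))
  let e : K →+* L := (Spec.preimage (g ≫ pullback.snd f (spm K))).hom
  let e' : K' →+* L := (Spec.preimage (g' ≫ pullback.snd f (spm K'))).hom
  have he : g ≫ pullback.snd f (spm K) = Spec.map (CommRingCat.ofHom e) := (Spec.map_preimage _).symm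
  have he' : g' ≫ pullback.snd f (spm K') = Spec.map (CommRingCat.ofHom e') := (Spec.map_preimage _).symm
  have hgg : g ≫ pullback.fst f (spm K) = g' ≫ pullback.fst f (spm K') := by
    simp only [g, g', Category.assoc, pullback.condition]
  letI : Algebra K L := e.toAlgebra
  letI : Algebra K' L := e'.toAlgebra
  letI : Algebra k L := (e.comp (algebraMap k K)).toAlgebra
  haveI : IsScalarTower k K L := IsScalarTower.of_algebraMap_eq' rfl
  have hbase : e'.comp (algebraMap k K') = e.comp (algebraMap k K) := by
    have h1 : Spec.map (CommRingCat.ofHom (e'.comp (algebraMap k K'))) = Spec.map (CommRingCat.ofHom (e.comp (algebraMap k K))) := by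
      have aux : ∀ (F : Type u) [Field F] [Algebra k F] (a : Spec (CommRingCat.of L) ⟶ pullback f (spm F)),
          (a ≫ pullback.snd f (spm F)) ≫ (spm F) = (a ≫ pullback.fst f (spm F)) ≫ f := fun F _ _ a => by
        rw [Category.assoc, Category.assoc, pullback.condition]
      have key : (g' ≫ pullback.snd f (spm K')) ≫ (spm K') = (g ≫ pullback.snd f (spm K)) ≫ (spm K) :=
        (aux K' g').trans ((congrArg (· ≫ f) hgg.symm).trans (aux K g).symm)
      rw [CommRingCat.ofHom_comp, CommRingCat.ofHom_comp, Spec.map_comp, Spec.map_comp, ← he, ← he']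
      exact key
    exact congrArg CommRingCat.Hom.hom (Spec.map_injective h1)
  haveI : IsScalarTower k K' L := IsScalarTower.of_algebraMap_eq' hbase.symm
  let l : Spec (CommRingCat.of L) ⟶ pullback f (spm L) := pullback.lift (g ≫ pullback.fst f (spm K)) (𝟙 _) (by
    rw [Category.assoc, pullback.condition, ← Category.assoc, he, Category.id_comp, ← Spec.map_comp, ← CommRingCat.ofHom_comp])
  have h1 : l ≫ trans f K L = g := by
    refine pullback.hom_ext ?_ ?_
    · rw [Category.assoc, trans_fst]
      exact pullback.lift_fst _ _ _
    · rw [Category.assoc, trans_snd, ← Category.assoc, pullback.lift_snd, Category.id_comp, he]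
  have h2 : l ≫ trans f K' L = g' := by
    refine pullback.hom_ext ?_ ?_
    · rw [Category.assoc, trans_fst, ← hgg]
      exact pullback.lift_fst _ _ _
    · rw [Category.assoc, trans_snd, ← Category.assoc, pullback.lift_snd, Category.id_comp, he']
  let o : ↥(Spec (CommRingCat.of L)) := IsLocalRing.closedPoint L
  have ho : W.fromSpecResidueField w o = w := W.fromSpecResidueField_apply w o
  refine ⟨L, inferInstance, inferInstance, inferInstance, inferInstance, inferInstance, inferInstance, l o, ?_, ?_⟩
  · refine (congrArg (fun φ => φ o) h1).trans ?_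
    change pullback.fst (pullback.fst f (spm K)) (pullback.fst f (spm K')) (W.fromSpecResidueField w o) = z
    rw [ho, hw1]
  · refine (congrArg (fun φ => φ o) h2).trans ?_
    change pullback.snd (pullback.fst f (spm K)) (pullback.fst f (spm K')) (W.fromSpecResidueField w o) = z'
    rw [ho, hw2]

end Groth.Agent.GeomRed
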