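import Groth.Agent.Lib.GeomRed18.Alg
import Groth.Agent.Lib.Sep.Basic
import Mathlib.FieldTheory.PurelyInseparable.PerfectClosure

/-!
Geometric reducedness through perfect fields.
-/

universe u

open TensorProduct

namespace Groth.Agent.GeomRed

variable {k : Type u} [Field k]

/-- Reducedness of a tensor product can be tested on a detecting family of algebras. -/
theorem isReduced_tensor_of_detecting {A : Type u} [CommRing A] [Algebra k A] (K : Type u) [Field K] [Algebra k K]
    {ι : Type*} (F : ι → Type u) [∀ i, CommRing (F i)] [∀ i, Algebra k (F i)] (φ : ∀ i, A →ₐ[k] F i)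
    (hdet : ∀ a : A, (∀ i, φ i a = 0) → a = 0) (h : ∀ i, IsReduced (F i ⊗[k] K)) : IsReduced (A ⊗[k] K) := by
  rw [isReduced_iff_sq]
  intro z hz
  let β := Module.Basis.ofVectorSpace k K
  obtain ⟨c, rfl⟩ := TensorProduct.eq_repr_basis_right β z
  suffices hc : ∀ j, c j = 0 by simp [Finsupp.sum, hc]
  refine fun j => hdet _ fun i => ?_
  let Φ := Algebra.TensorProduct.map (φ i) (AlgHom.id k K)
  have h0 : Φ (c.sum fun i m => m ⊗ₜ[k] β i) = 0 :=
    isReduced_iff_sq.mp (h i) _ (by rw [← map_mul, hz, map_zero])
  have h1 : (c.mapRange (φ i) (map_zero _)).sum (fun i m => m ⊗ₜ[k] β i) = 0 := by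
    rw [Finsupp.sum_mapRange_index (h := fun j (m : F i) => m ⊗ₜ[k] β j) (fun _ => zero_tmul _ _), ← h0, map_finsuppSum]
    rfl
  have h2 := (TensorProduct.sum_tmul_basis_right_eq_zero β _ h1)
  exact DFunLike.congr_fun h2 j

/-- Over a perfect field every reduced algebra stays reduced. -/
theorem isReduced_tensor_of_perfectField [PerfectField k] (A : Type u) [CommRing A] [Algebra k A] [IsReduced A]
    (K : Type u) [Field K] [Algebra k K] : IsReduced (A ⊗[k] K) := by
  refine isReduced_tensor_of_detecting K (fun P : PrimeSpectrum A => P.asIdeal.ResidueField)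
    (fun P => IsScalarTower.toAlgHom k A P.asIdeal.ResidueField) (fun a ha => ?_) fun P => ?_
  · refine (isNilpotent_iff_eq_zero.mp ?_ : a = 0)
    rw [nilpotent_iff_mem_prime]
    intro J hJ
    exact Ideal.algebraMap_residueField_eq_zero.mp (ha ⟨J, hJ⟩)
  · haveI := (Sep.formallySmooth_iff_isGeometricallyReduced k P.asIdeal.ResidueField).mp
      (FieldFS.formallySmooth_of_perfectField k P.asIdeal.ResidueField)
    exact isReduced_tensor_field k K _

/-- One perfect extension suffices. -/
theorem isGeometricallyReduced_of_perfect (Ω : Type u) [Field Ω] [Algebra k Ω] [PerfectField Ω]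
    (A : Type u) [CommRing A] [Algebra k A] [IsReduced (A ⊗[k] Ω)] : Algebra.IsGeometricallyReduced k A := by
  rw [Algebra.isGeometricallyReduced_field_iff]
  let L := AlgebraicClosure Ω
  let j : AlgebraicClosure k →ₐ[k] L := IsAlgClosed.lift
  haveI : IsReduced (Ω ⊗[k] A) :=
    isReduced_of_injective (Algebra.TensorProduct.comm k Ω A).toAlgHom (Algebra.TensorProduct.comm k Ω A).injective
  haveI := isReduced_tensor_of_perfectField (k := Ω) (Ω ⊗[k] A) L
  haveI : IsReduced (L ⊗[Ω] (Ω ⊗[k] A)) :=
    isReduced_of_injective (Algebra.TensorProduct.comm Ω L (Ω ⊗[k] A)).toAlgHom (Algebra.TensorProduct.comm Ω L (Ω ⊗[k] A)).injective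
  haveI : IsReduced (L ⊗[k] A) :=
    isReduced_of_injective (Algebra.TensorProduct.cancelBaseChange k Ω L L A).symm.toAlgHom
      (Algebra.TensorProduct.cancelBaseChange k Ω L L A).symm.injective
  exact isReduced_of_injective (Algebra.TensorProduct.map j (AlgHom.id k A))
    (Module.Flat.rTensor_preserves_injective_linearMap j.toLinearMap j.injective)

/-- Finite purely inseparable levels suffice. -/
theorem isGeometricallyReduced_of_purelyInseparable (A : Type u) [CommRing A] [Algebra k A]
    (h : ∀ (k' : Type u) [Field k'] [Algebra k k'] [FiniteDimensional k k'] [IsPurelyInseparable k k'], IsReduced (A ⊗[k] k')) :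
    Algebra.IsGeometricallyReduced k A := by
  let P := perfectClosure k (AlgebraicClosure k)
  haveI : IsReduced (A ⊗[k] P) := IsReduced.tensorProduct_of_flat_of_forall_fg fun D hD => by
    obtain ⟨s, hs⟩ := hD
    let F := IntermediateField.adjoin k ((↑) '' (s : Set P) : Set (AlgebraicClosure k))
    haveI : FiniteDimensional k F :=
      haveI : Finite ((↑) '' (s : Set P) : Set (AlgebraicClosure k)) := (s.finite_toSet.image _).to_subtype
      IntermediateField.finiteDimensional_adjoin fun x _ => Algebra.IsIntegral.isIntegral x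
    have hFP : F ≤ P := IntermediateField.adjoin_le_iff.mpr (by rintro _ ⟨x, -, rfl⟩; exact x.2)
    haveI : IsPurelyInseparable k F := (le_perfectClosure_iff k (AlgebraicClosure k) F).mp hFP
    haveI := h F
    have hle : ∀ x ∈ D, (x : AlgebraicClosure k) ∈ F := by
      intro x hx
      rw [← hs] at hx
      induction hx using Algebra.adjoin_induction with
      | mem y hy => exact IntermediateField.subset_adjoin k _ ⟨y, hy, rfl⟩
      | algebraMap r => exact F.algebraMap_mem r
      | add y z _ _ hy hz => exact add_mem hy hz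
      | mul y z _ _ hy hz => exact mul_mem hy hz
    let i : D →ₐ[k] F := (P.val.comp D.val).codRestrict F.toSubalgebra fun x => hle x.1 x.2
    exact isReduced_of_injective (Algebra.TensorProduct.map (AlgHom.id k A) i)
      (Module.Flat.lTensor_preserves_injective_linearMap i.toLinearMap fun a b hab =>
        Subtype.ext (Subtype.ext (show ((i a : F) : AlgebraicClosure k) = (i b : F) from congrArg (fun z : F => (z : AlgebraicClosure k)) hab)))
  exact isGeometricallyReduced_of_perfect P A

end Groth.Agent.GeomRed
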