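import Groth.Agent.Lib.GeomRed18.Scheme
import Groth.Agent.Lib.GeomRed18.Perfect
import Groth.Agent.Lib.GeomRed18.Common

/-!
Criteria for geometric reducedness.
-/

universe u

open CategoryTheory Limits AlgebraicGeometry TensorProduct

namespace Groth.Agent.GeomRed

attribute [local instance] Curv2.stalkAlgebra secAlgebra

variable {k : Type u} [Field k] {X : Scheme.{u}} [X.Over (Spec (CommRingCat.of k))]

/-- A reduced base change has reduced coordinate rings. -/
theorem isReduced_tensor_sections {W : X.Opens} (hW : IsAffineOpen W) (K : Type u) [Field K] [Algebra k K]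
    [AlgebraicGeometry.IsReduced (Curv2.bc k X K)] : _root_.IsReduced (Γ(X, W) ⊗[k] K) := by
  obtain ⟨ι, hι, -, -⟩ := exists_chart (k := k) hW K
  haveI := hι
  haveI := isReduced_of_isOpenImmersion ι
  exact (affine_isReduced_iff (.of (Γ(X, W) ⊗[k] K))).1 inferInstance

theorem isReduced_tensor_stalk (x : X) (K : Type u) [Field K] [Algebra k K]
    [AlgebraicGeometry.IsReduced (Curv2.bc k X K)] : _root_.IsReduced (X.presheaf.stalk x ⊗[k] K) := by
  obtain ⟨W, hW, hx, -⟩ := exists_isAffineOpen_mem_and_subset (X := X) (x := x) (U := ⊤) trivial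
  rw [isReduced_tensor_stalk_iff hW hx]
  intro b hb
  exact ⟨1, one_mem _, by rw [isReduced_iff_sq.mp (isReduced_tensor_sections hW K) b hb, mul_zero]⟩

/-- Geometric reducedness from reducedness over one perfect field. -/
theorem geometricallyReduced_of_perfect (Ω : Type u) [Field Ω] [Algebra k Ω] [PerfectField Ω]
    [AlgebraicGeometry.IsReduced (Curv2.bc k X Ω)] : GeometricallyReduced (X ↘ Spec (CommRingCat.of k)) := by
  refine geometricallyReduced_iff_forall.mpr fun x => (isGeomReducedAt_iff x).mpr ?_
  haveI := isReduced_tensor_stalk (k := k) x Ω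
  exact isGeometricallyReduced_of_perfect Ω _

theorem isGeomReducedAt_iff_purelyInseparable (x : X) :
    Curv2.IsGeomReducedAt k X x ↔
      ∀ (k' : Type u) [Field k'] [Algebra k k'] [FiniteDimensional k k'] [IsPurelyInseparable k k']
        (x' : Curv2.bc k X k'), Curv2.bcFst k X k' x' = x → _root_.IsReduced ((Curv2.bc k X k').presheaf.stalk x') := by
  refine ⟨fun h k' _ _ _ _ x' hx' => h k' x' hx', fun h => (isGeomReducedAt_iff x).mpr ?_⟩
  refine isGeometricallyReduced_of_purelyInseparable _ fun k' _ _ _ _ => ?_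
  exact isReduced_tensor_of_points x k' (h k')

theorem isGeomReducedAt_of_perfectField [PerfectField k] (x : X) [_root_.IsReduced (X.presheaf.stalk x)] :
    Curv2.IsGeomReducedAt k X x := by
  rw [isGeomReducedAt_iff, isGeometricallyReduced_iff]
  exact isReduced_tensor_of_perfectField _ _

/-- Geometric reducedness at all maximal points of a reduced scheme. -/
theorem geometricallyReduced_of_maximal [AlgebraicGeometry.IsReduced X]
    (h : ∀ η : X, (∀ y : X, y ⤳ η → y = η) → Curv2.IsGeomReducedAt k X η) :
    GeometricallyReduced (X ↘ Spec (CommRingCat.of k)) := by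
  refine geometricallyReduced_iff_forall.mpr fun x => (isGeomReducedAt_iff x).mpr ?_
  obtain ⟨W, hW, hx, -⟩ := exists_isAffineOpen_mem_and_subset (X := X) (x := x) (U := ⊤) trivial
  rw [isGeometricallyReduced_iff, isReduced_tensor_stalk_iff hW hx]
  haveI : _root_.IsReduced (Γ(X, W) ⊗[k] AlgebraicClosure k) := by
    haveI : _root_.IsReduced Γ(X, W) := inferInstance
    refine isReduced_tensor_of_detecting (AlgebraicClosure k)
      (fun P : {P : Ideal Γ(X, W) // P ∈ minimalPrimes Γ(X, W)} => X.presheaf.stalk (hW.fromSpec ⟨P.1, P.2.1.1⟩))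
      (fun P => { toRingHom := (X.presheaf.germ W _ (by rw [← SetLike.mem_coe, ← hW.range_fromSpec]; exact ⟨_, rfl⟩)).hom
                  commutes' := fun c => RingHom.congr_fun (germ_comp_secMap _) c }) (fun a ha => ?_) fun P => ?_
    · refine (isNilpotent_iff_eq_zero.mp ?_ : a = 0)
      rw [← mem_nilradical, nilradical, ← Ideal.sInf_minimalPrimes, Submodule.mem_sInf]
      intro P hP
      let p : Spec Γ(X, W) := ⟨P, hP.1.1⟩
      have hp : hW.fromSpec p ∈ W := by rw [← SetLike.mem_coe, ← hW.range_fromSpec]; exact ⟨p, rfl⟩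
      letI := TopCat.Presheaf.algebra_section_stalk X.presheaf (⟨_, hp⟩ : W)
      haveI hp2 : p.asIdeal.IsPrime := hP.1.1
      haveI : IsLocalization.AtPrime (X.presheaf.stalk (hW.fromSpec p)) p.asIdeal := hW.isLocalization_stalk' p hp
      obtain ⟨s, hs⟩ := (IsLocalization.map_eq_zero_iff p.asIdeal.primeCompl (X.presheaf.stalk (hW.fromSpec p)) a).mp (ha ⟨P, hP⟩)
      exact (hP.1.1.mem_or_mem (show (s : Γ(X, W)) * a ∈ P by rw [hs]; exact zero_mem _)).resolve_left s.2
    · let p : Spec Γ(X, W) := ⟨P.1, P.2.1.1⟩
      have hg := h (hW.fromSpec p) fun y hy => by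
        have hyW : y ∈ (W : Set X) := hy.mem_open W.isOpen (by rw [← hW.range_fromSpec]; exact ⟨p, rfl⟩)
        obtain ⟨q, rfl⟩ : y ∈ Set.range hW.fromSpec := hW.range_fromSpec.ge hyW
        have hle : q.asIdeal ≤ p.asIdeal :=
          (PrimeSpectrum.le_iff_specializes q p).mpr (hW.fromSpec.isOpenEmbedding.isInducing.specializes_iff.mp hy)
        exact congrArg _ (PrimeSpectrum.ext (le_antisymm hle (P.2.2 ⟨q.isPrime, bot_le⟩ hle)))
      haveI := (isGeomReducedAt_iff _).mp hg
      exact isReduced_tensor_field k (AlgebraicClosure k) _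
  intro b hb
  exact ⟨1, one_mem _, by rw [isReduced_iff_sq.mp inferInstance b hb, mul_zero]⟩

/-- A geometrically reduced extension keeps reduced schemes reduced. -/
theorem isReduced_bc [AlgebraicGeometry.IsReduced X] (K : Type u) [Field K] [Algebra k K]
    [Algebra.IsGeometricallyReduced k K] : AlgebraicGeometry.IsReduced (Curv2.bc k X K) := by
  haveI : ∀ z : ↥(Curv2.bc k X K), _root_.IsReduced ((Curv2.bc k X K).presheaf.stalk z) := fun z => by
    let x := Curv2.bcFst k X K z
    haveI : _root_.IsReduced (X.presheaf.stalk x ⊗[k] K) := by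
      refine isReduced_tensor_of_detecting K (fun P : PrimeSpectrum (X.presheaf.stalk x) => P.asIdeal.ResidueField)
        (fun P => IsScalarTower.toAlgHom k _ P.asIdeal.ResidueField) (fun a ha => ?_) fun P => ?_
      · refine (isNilpotent_iff_eq_zero.mp ?_ : a = 0)
        rw [nilpotent_iff_mem_prime]
        intro J hJ
        exact Ideal.algebraMap_residueField_eq_zero.mp (ha ⟨J, hJ⟩)
      · haveI := isReduced_tensor_field k P.asIdeal.ResidueField K
        exact isReduced_of_injective (Algebra.TensorProduct.comm k P.asIdeal.ResidueField K).toAlgHom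
          (Algebra.TensorProduct.comm k P.asIdeal.ResidueField K).injective
    exact isReduced_stalk_bc (x := x) specializes_rfl K z rfl
  exact isReduced_of_isReduced_stalk _

/-- Geometric reducedness at a point does not depend on the base field. -/
theorem isGeomReducedAt_bc_iff (k' : Type u) [Field k'] [Algebra k k'] (x' : ↥(Curv2.bc k X k')) :
    Curv2.IsGeomReducedAt k X (Curv2.bcFst k X k' x') ↔
      @Curv2.IsGeomReducedAt k' _ (Curv2.bc k X k') ⟨Curv2.bcSnd k X k'⟩ x' := by
  let f := X ↘ Spec (CommRingCat.of k)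
  constructor
  · intro h K _ _ z hz
    letI : Algebra k K := ((algebraMap k' K).comp (algebraMap k k')).toAlgebra
    haveI : IsScalarTower k k' K := IsScalarTower.of_algebraMap_eq' rfl
    let e := (isPullback_trans f k' K).isoPullback
    obtain ⟨v, rfl⟩ := e.hom.surjective z
    have hv : pullback.fst f _ v = Curv2.bcFst k X k' x' := by
      rw [← trans_fst f k' K, Scheme.Hom.comp_apply]
      refine congrArg _ ?_
      rw [← hz]
      exact (congrArg (fun φ => φ v) (isPullback_trans f k' K).isoPullback_hom_fst).symm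
    exact (isReduced_stalk_congr e.hom v).mpr (h K v hv)
  · intro h K _ _ z hz
    obtain ⟨L, hL1, hL2, hL3, hL4, hL5, hL6, u, hu, hu'⟩ := exists_common f K k' z x' hz
    let e := (isPullback_trans f k' L).isoPullback
    haveI := h L (e.hom u) (by
      rw [← hu']
      exact congrArg (fun φ => φ u) (isPullback_trans f k' L).isoPullback_hom_fst)
    haveI : _root_.IsReduced ((pullback f (Spec.map (CommRingCat.ofHom (algebraMap k L)))).presheaf.stalk u) :=
      (isReduced_stalk_congr e.hom u).mp ‹_›
    haveI := flat_trans f K L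
    subst hu
    exact isReduced_of_injective ((trans f K L).stalkMap u).hom (stalkMap_injective (trans f K L) u)

end Groth.Agent.GeomRed
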