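import Groth.Agent.Lib.GeomRed18.Apps
import Groth.Agent.Lib.GeomIrr18.Res
import Groth.Agent.Lib.RegSmooth17.Scheme
import Groth.Agent.Lib.SmoothReg17.Basic
import Groth.Agent.Lib.SmoothSection.Scheme
import Groth.Agent.Lib.FlatH4.GenPt
import Mathlib.AlgebraicGeometry.Morphisms.Finite
import Mathlib.RingTheory.Etale.Field

/-!
Smooth schemes over a field: separable points and geometric reducedness.
-/

universe u

open CategoryTheory Limits AlgebraicGeometry

namespace Groth.Agent.GeomRed

attribute [local instance] Curv2.stalkAlgebra Curv2.resAlgebra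

variable {k : Type u} [Field k]

theorem resMap_eq_toStalk {X : Scheme.{u}} [X.Over (Spec (CommRingCat.of k))] (x : X) :
    Curv2.resMap k X x = (X.residue x).hom.comp (RegSmooth17.toStalk (X ↘ Spec (CommRingCat.of k)) x) := rfl

/-- A point of a scheme étale over a field has finite separable residue field. -/
theorem finite_separable_of_etale {Z : Scheme.{u}} [Z.Over (Spec (CommRingCat.of k))]
    [Etale (Z ↘ Spec (CommRingCat.of k))] (z : Z) :
    FiniteDimensional k (Z.residueField z) ∧ Algebra.IsSeparable k (Z.residueField z) := by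
  let g := Z ↘ Spec (CommRingCat.of k)
  haveI : Algebra.EssFiniteType k (Z.residueField z) := by
    refine RingHom.essFiniteType_algebraMap.1 ?_
    change (Curv2.resMap k Z z).EssFiniteType
    rw [resMap_eq_toStalk]
    refine RingHom.EssFiniteType.comp ?_ (RingHom.FiniteType.of_surjective _ (Z.residue_surjective z)).essFiniteType
    rw [RegSmooth17.toStalk_eq]
    refine RingHom.EssFiniteType.comp (RingHom.EssFiniteType.comp ?_ ?_) (LocallyOfFiniteType.stalkMap g z)
    · exact (RingHom.FiniteType.of_surjective _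
        (ConcreteCategory.bijective_of_isIso (Scheme.ΓSpecIso (CommRingCat.of k)).inv).2).essFiniteType
    · have hU := isAffineOpen_top (Spec (CommRingCat.of k))
      letI := (Spec (CommRingCat.of k)).presheaf.algebra_section_stalk (U := ⊤) ⟨g z, trivial⟩
      haveI := hU.isLocalization_stalk ⟨g z, trivial⟩
      exact RingHom.essFiniteType_algebraMap.2
        (Algebra.EssFiniteType.of_isLocalization _ (hU.primeIdealOf ⟨g z, trivial⟩).asIdeal.primeCompl)
  haveI : Algebra.FormallyUnramified k (Z.residueField z) := by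
    refine RingHom.formallyUnramified_algebraMap.1 ?_
    change (Curv2.resMap k Z z).FormallyUnramified
    rw [resMap_eq_toStalk]
    refine RingHom.FormallyUnramified.comp ?_ (RingHom.FormallyUnramified.of_surjective (Z.residue_surjective z))
    rw [RegSmooth17.toStalk_eq]
    exact RingHom.FormallyUnramified.comp (RegSmooth17.formallyUnramified_germ _) (FormallyUnramified.stalkMap g z)
  exact ⟨Algebra.FormallyUnramified.finite_of_free k _, Algebra.FormallyUnramified.isSeparable k _⟩

variable {X : Scheme.{u}} [X.Over (Spec (CommRingCat.of k))]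

/-- Nonempty opens of a smooth scheme over a field have closed points with finite separable residue field. -/
theorem exists_separable_point [LocallyOfFiniteType (X ↘ Spec (CommRingCat.of k))] (U : X.Opens)
    [Smooth (U.ι ≫ (X ↘ Spec (CommRingCat.of k)))] {x : X} (hx : x ∈ U) :
    ∃ y ∈ U, IsClosed ({y} : Set X) ∧ FiniteDimensional k (X.residueField y) ∧ Algebra.IsSeparable k (X.residueField y) := by
  let f := X ↘ Spec (CommRingCat.of k)
  obtain ⟨Z, g, z, hg, -, h, hh⟩ := SmoothSection.exists_etale_section (U.ι ≫ f) ⟨x, hx⟩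
  letI : Z.Over (Spec (CommRingCat.of k)) := ⟨g⟩
  haveI : Etale (Z ↘ Spec (CommRingCat.of k)) := hg
  obtain ⟨hfin, hsep⟩ := finite_separable_of_etale (k := k) z
  let j := h ≫ U.ι
  let y := j z
  let r : X.residueField y →ₐ[k] Z.residueField z :=
    { toRingHom := (j.residueFieldMap z).hom
      commutes' := fun c => by
        refine RingHom.congr_fun (f := (j.residueFieldMap z).hom.comp (Curv2.resMap k X y)) ?_ c
        refine congrArg CommRingCat.Hom.hom (Spec.map_injective (a₁ := CommRingCat.ofHom (Curv2.resMap k X y) ≫ j.residueFieldMap z) (a₂ := CommRingCat.ofHom (Curv2.resMap k Z z)) ?_)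
        refine Eq.trans ?_ (GeomIrr.spec_resMap k Z z).symm
        rw [Spec.map_comp, GeomIrr.spec_resMap, ← Category.assoc, Scheme.Hom.SpecMap_residueFieldMap_fromSpecResidueField, Category.assoc]
        refine congrArg (Z.fromSpecResidueField z ≫ ·) ?_
        exact ((Category.assoc h U.ι f).trans hh : j ≫ f = g) }
  haveI : FiniteDimensional k (X.residueField y) := FiniteDimensional.of_injective r.toLinearMap r.toRingHom.injective
  refine ⟨y, (h z).2, ?_, inferInstance, Algebra.IsSeparable.of_algHom k (Z.residueField z) r⟩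
  haveI : JacobsonSpace X := LocallyOfFiniteType.jacobsonSpace (Y := Spec _) f
  rw [isClosed_singleton_iff_locallyOfFiniteType]
  haveI : IsFinite (Spec.map (CommRingCat.ofHom (Curv2.resMap k X y))) :=
    (IsFinite.SpecMap_iff (CommRingCat.ofHom (Curv2.resMap k X y))).2 (RingHom.finite_algebraMap.2 ‹_›)
  haveI : LocallyOfFiniteType (X.fromSpecResidueField y ≫ f) := by
    rw [← GeomIrr.spec_resMap]; infer_instance
  exact locallyOfFiniteType_of_comp (X.fromSpecResidueField y) f

/-- A scheme smooth over a field is geometrically reduced. -/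
theorem geometricallyReduced_of_smooth [Smooth (X ↘ Spec (CommRingCat.of k))] :
    GeometricallyReduced (X ↘ Spec (CommRingCat.of k)) := by
  refine ⟨geometrically_iff_of_commRing_of_isClosedUnderIsomorphisms.mpr fun K _ _ => ?_⟩
  let p := pullback.snd (X ↘ Spec (CommRingCat.of k)) (Spec.map (CommRingCat.ofHom (algebraMap k K)))
  haveI : Smooth p := MorphismProperty.pullback_snd _ _ inferInstance
  haveI : ∀ z, _root_.IsReduced ((Curv2.bc k X K).presheaf.stalk z) := fun z =>
    haveI := SmoothReg17.isDomain_stalk p z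
    inferInstance
  exact isReduced_of_isReduced_stalk (Curv2.bc k X K)

theorem smooth_smoothLocus [LocallyOfFinitePresentation (X ↘ Spec (CommRingCat.of k))] :
    Smooth ((X ↘ Spec (CommRingCat.of k)).smoothLocus.ι ≫ (X ↘ Spec (CommRingCat.of k))) := by
  rw [← Scheme.Hom.smoothLocus_eq_top_iff, ← Scheme.Hom.preimage_smoothLocus_eq]
  exact top_le_iff.mp fun x _ => x.2

theorem isGeomReducedAt_of_mem_smoothLocus [LocallyOfFinitePresentation (X ↘ Spec (CommRingCat.of k))] {x : X}
    (hx : x ∈ (X ↘ Spec (CommRingCat.of k)).smoothLocus) : Curv2.IsGeomReducedAt k X x := by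
  let f := X ↘ Spec (CommRingCat.of k)
  haveI := smooth_smoothLocus (k := k) (X := X)
  intro K _ _ z hz
  let s := Spec.map (CommRingCat.ofHom (algebraMap k K))
  let m := pullback.map (f.smoothLocus.ι ≫ f) s f s f.smoothLocus.ι (𝟙 _) (𝟙 _) (by simp) (by simp)
  obtain ⟨w, rfl⟩ : z ∈ Set.range m := by
    refine (Scheme.Pullback.range_map _ _ _ _ _ _ _ _ _).ge ⟨?_, ?_⟩
    · rw [Set.mem_preimage, Scheme.Opens.range_ι, show pullback.fst f s z = x from hz]
      exact hx
    · exact ⟨_, rfl⟩
  haveI : Smooth (pullback.snd (f.smoothLocus.ι ≫ f) s) := MorphismProperty.pullback_snd _ _ inferInstance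
  rw [isReduced_stalk_congr]
  haveI := SmoothReg17.isDomain_stalk (pullback.snd (f.smoothLocus.ι ≫ f) s) w
  infer_instance

theorem isRegularLocalRing_of_mem_smoothLocus [LocallyOfFinitePresentation (X ↘ Spec (CommRingCat.of k))] {x : X}
    (hx : x ∈ (X ↘ Spec (CommRingCat.of k)).smoothLocus) : IsRegularLocalRing (X.presheaf.stalk x) := by
  let f := X ↘ Spec (CommRingCat.of k)
  haveI := smooth_smoothLocus (k := k) (X := X)
  haveI := SmoothReg17.isRegularLocalRing_stalk (f.smoothLocus.ι ≫ f) ⟨x, hx⟩
  exact IsRegularLocalRing.of_ringEquiv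
    (asIso (f.smoothLocus.ι.stalkMap ⟨x, hx⟩)).commRingCatIsoToRingEquiv.symm

end Groth.Agent.GeomRed
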