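import Groth.Agent.Lib.GeomRed18.Alg
import Groth.Prelude
import Mathlib.AlgebraicGeometry.Geometrically.Reduced
import Mathlib.AlgebraicGeometry.AffineScheme
import Mathlib.AlgebraicGeometry.Properties

/-!
Geometric reducedness at a point.
-/

universe u

open CategoryTheory Limits AlgebraicGeometry TensorProduct

namespace Groth.Agent.GeomRed

attribute [local instance] Curv2.stalkAlgebra

variable {k : Type u} [Field k] {X : Scheme.{u}} [X.Over (Spec (CommRingCat.of k))]

/-- The structure map of the sections over an open. -/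
noncomputable def secMap (k : Type u) [Field k] (X : Scheme.{u}) [X.Over (Spec (CommRingCat.of k))] (W : X.Opens) :
    k →+* Γ(X, W) :=
  (X.presheaf.map (homOfLE (le_top : W ≤ ⊤)).op).hom.comp (Coh.toGlobal (X ↘ Spec (CommRingCat.of k)))

/-- The algebra structure of the sections over an open. -/
noncomputable abbrev secAlgebra (k : Type u) [Field k] (X : Scheme.{u}) [X.Over (Spec (CommRingCat.of k))] (W : X.Opens) :
    Algebra k Γ(X, W) := (secMap k X W).toAlgebra

attribute [local instance] secAlgebra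

theorem germ_comp_secMap {W : X.Opens} {x : X} (hx : x ∈ W) :
    (X.presheaf.germ W x hx).hom.comp (secMap k X W) = Curv2.stalkMap k X x := by
  ext a
  exact congrArg (fun φ => φ (Coh.toGlobal (X ↘ Spec (CommRingCat.of k)) a))
    (congrArg CommRingCat.Hom.hom (X.presheaf.germ_res (homOfLE (le_top : W ≤ ⊤)) x hx))

theorem spec_secMap {W : X.Opens} (hW : IsAffineOpen W) :
    Spec.map (CommRingCat.ofHom (algebraMap k Γ(X, W))) = hW.fromSpec ≫ (X ↘ Spec (CommRingCat.of k)) := by
  have hf : X ↘ Spec (CommRingCat.of k) =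
      X.toSpecΓ ≫ Spec.map ((Scheme.ΓSpecIso (CommRingCat.of k)).inv ≫ (X ↘ Spec (CommRingCat.of k)).appTop) := by
    rw [Spec.map_comp, ← Scheme.toSpecΓ_naturality_assoc, toSpecΓ_SpecMap_ΓSpecIso_inv, Category.comp_id]
  rw [hf, ← Category.assoc, hW.fromSpec_toSpecΓ, ← Spec.map_comp]
  rfl

/-- An affine chart of a base change. -/
theorem exists_chart {W : X.Opens} (hW : IsAffineOpen W) (K : Type u) [Field K] [Algebra k K] :
    ∃ ι : Spec (CommRingCat.of (Γ(X, W) ⊗[k] K)) ⟶ Curv2.bc k X K, IsOpenImmersion ι ∧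
      (∀ q, Curv2.bcFst k X K (ι q) =
        hW.fromSpec (PrimeSpectrum.comap (algebraMap Γ(X, W) (Γ(X, W) ⊗[k] K)) q)) ∧
      Set.range ι = Curv2.bcFst k X K ⁻¹' (W : Set X) := by
  let f := X ↘ Spec (CommRingCat.of k)
  let g := Spec.map (CommRingCat.ofHom (algebraMap k K))
  let m := pullback.map (Spec.map (CommRingCat.ofHom (algebraMap k Γ(X, W)))) g f g hW.fromSpec (𝟙 _) (𝟙 _)
    (by rw [Category.comp_id, spec_secMap hW]) (by simp)
  let ι := (pullbackSpecIso k Γ(X, W) K).inv ≫ m
  have hfst : ι ≫ Curv2.bcFst k X K = Spec.map (CommRingCat.ofHom Algebra.TensorProduct.includeLeftRingHom) ≫ hW.fromSpec := by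
    change ((pullbackSpecIso k Γ(X, W) K).inv ≫ m) ≫ pullback.fst f g = _
    rw [Category.assoc, pullback.lift_fst, ← Category.assoc, pullbackSpecIso_inv_fst]
  refine ⟨ι, inferInstance, fun q => congrArg (fun φ => φ q) hfst, ?_⟩
  rw [show Set.range ι = Set.range m from (pullbackSpecIso k Γ(X, W) K).inv.surjective.range_comp m]
  refine (Scheme.Pullback.range_map _ _ _ _ _ _ _ _ _).trans ?_
  simp [hW.range_fromSpec]
  rfl

theorem isReduced_stalk_congr {Y Z : Scheme.{u}} (ι : Y ⟶ Z) [IsOpenImmersion ι] (y : Y) :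
    _root_.IsReduced (Z.presheaf.stalk (ι y)) ↔ _root_.IsReduced (Y.presheaf.stalk y) := by
  let e := (asIso (ι.stalkMap y)).commRingCatIsoToRingEquiv
  exact ⟨fun h => isReduced_of_injective e.symm.toRingHom e.symm.injective,
    fun h => isReduced_of_injective e.toRingHom e.injective⟩

/-- Reducedness of the local ring at a point of a chart. -/
theorem isReduced_stalk_spec {R : Type u} [CommRing R] (q : Spec (CommRingCat.of R)) :
    _root_.IsReduced ((Spec (CommRingCat.of R)).presheaf.stalk q) ↔ ∀ b : R, b * b = 0 → ∃ v ∉ q.asIdeal, v * b = 0 :=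
  haveI : IsLocalization.AtPrime ((Spec.structureSheaf R).presheaf.stalk q) q.asIdeal :=
    StructureSheaf.IsLocalization.to_stalk R q
  isReduced_atPrime_iff q.asIdeal ((Spec.structureSheaf R).presheaf.stalk q)

variable {W : X.Opens} (hW : IsAffineOpen W) {x : X} (hx : x ∈ W)

include hW hx in
/-- The criterion in a chart. -/
theorem isReduced_tensor_stalk_iff (K : Type u) [CommRing K] [Algebra k K] :
    _root_.IsReduced (X.presheaf.stalk x ⊗[k] K) ↔ RedAway k (hW.primeIdealOf ⟨x, hx⟩).asIdeal.primeCompl K := by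
  letI := TopCat.Presheaf.algebra_section_stalk X.presheaf (⟨x, hx⟩ : W)
  haveI := hW.isLocalization_stalk ⟨x, hx⟩
  haveI : IsScalarTower k Γ(X, W) (X.presheaf.stalk x) := IsScalarTower.of_algebraMap_eq' (germ_comp_secMap hx).symm
  exact isReduced_tensor_iff k _ K (X.presheaf.stalk x)

/-- Reducedness near a point gives reducedness at all points above its generisations. -/
theorem isReduced_stalk_bc {x' : X} (h : x' ⤳ x) (K : Type u) [Field K] [Algebra k K]
    [_root_.IsReduced (X.presheaf.stalk x ⊗[k] K)] (z : ↥(Curv2.bc k X K)) (hz : Curv2.bcFst k X K z = x') :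
    _root_.IsReduced ((Curv2.bc k X K).presheaf.stalk z) := by
  obtain ⟨W, hW, hx, -⟩ := exists_isAffineOpen_mem_and_subset (X := X) (x := x) (U := ⊤) trivial
  obtain ⟨ι, hι, hfst, hr⟩ := exists_chart (k := k) hW K
  haveI := hι
  obtain ⟨q, rfl⟩ : z ∈ Set.range ι := hr.ge (show Curv2.bcFst k X K z ∈ W from hz ▸ h.mem_open W.isOpen hx)
  rw [isReduced_stalk_congr, isReduced_stalk_spec]
  intro b hb
  obtain ⟨s, hs, hsb⟩ := (isReduced_tensor_stalk_iff hW hx K).mp inferInstance b hb
  refine ⟨_, fun hmem => hs ?_, hsb⟩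
  have h1 : hW.fromSpec (PrimeSpectrum.comap (algebraMap Γ(X, W) (Γ(X, W) ⊗[k] K)) q) ⤳
      hW.fromSpec (hW.primeIdealOf ⟨x, hx⟩) := by
    rw [← hfst, hz, hW.fromSpec_primeIdealOf]
    exact h
  exact (PrimeSpectrum.le_iff_specializes _ _).mpr (hW.fromSpec.isOpenEmbedding.isInducing.specializes_iff.mp h1) hmem

omit hW hx in
/-- For an algebraic extension reducedness at the points above gives reducedness of the tensor product. -/
theorem isReduced_tensor_of_points (x : X) (K : Type u) [Field K] [Algebra k K] [Algebra.IsAlgebraic k K]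
    (h : ∀ z : ↥(Curv2.bc k X K), Curv2.bcFst k X K z = x → _root_.IsReduced ((Curv2.bc k X K).presheaf.stalk z)) :
    _root_.IsReduced (X.presheaf.stalk x ⊗[k] K) := by
  obtain ⟨W, hW, hx, -⟩ := exists_isAffineOpen_mem_and_subset (X := X) (x := x) (U := ⊤) trivial
  obtain ⟨ι, hι, hfst, hr⟩ := exists_chart (k := k) hW K
  haveI := hι
  rw [isReduced_tensor_stalk_iff hW hx]
  refine redAway_of_primesOver k K (hW.primeIdealOf ⟨x, hx⟩).asIdeal fun q hq hqp => ?_
  have := h (ι ⟨q, hq⟩) (by
    rw [hfst]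
    refine Eq.trans ?_ (hW.fromSpec_primeIdealOf ⟨x, hx⟩)
    congr 1
    exact PrimeSpectrum.ext hqp)
  rwa [isReduced_stalk_congr, isReduced_stalk_spec] at this

omit hW hx in
theorem isGeomReducedAt_iff (x : X) :
    Curv2.IsGeomReducedAt k X x ↔ Algebra.IsGeometricallyReduced k (X.presheaf.stalk x) := by
  constructor
  · intro h
    rw [isGeometricallyReduced_iff]
    exact isReduced_tensor_of_points x _ fun z hz => h _ z hz
  · intro h K _ _ z hz
    haveI := isReduced_tensor_field k K (X.presheaf.stalk x)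
    exact isReduced_stalk_bc (x := x) specializes_rfl K z hz

theorem geometricallyReduced_iff_forall :
    GeometricallyReduced (X ↘ Spec (CommRingCat.of k)) ↔ ∀ x : X, Curv2.IsGeomReducedAt k X x := by
  constructor
  · intro h x K _ _ z _
    haveI : IsReduced (Curv2.bc k X K) := GeometricallyReduced.geometrically_isReduced
      (f := X ↘ Spec (CommRingCat.of k)) _ _ _ (IsPullback.of_hasPullback _ _)
    infer_instance
  · intro h
    refine ⟨geometrically_iff_of_commRing_of_isClosedUnderIsomorphisms.mpr fun K _ _ => ?_⟩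
    haveI : ∀ z : ↥(Curv2.bc k X K), _root_.IsReduced ((Curv2.bc k X K).presheaf.stalk z) := fun z => h _ K z rfl
    exact isReduced_of_isReduced_stalk (Curv2.bc k X K)

theorem isGeomReducedAt_of_specializes {x x' : X} (h : x' ⤳ x) (hx : Curv2.IsGeomReducedAt k X x) :
    Curv2.IsGeomReducedAt k X x' := by
  intro K _ _ z hz
  haveI := (isGeomReducedAt_iff x).mp hx
  haveI := isReduced_tensor_field k K (X.presheaf.stalk x)
  exact isReduced_stalk_bc h K z hz

end Groth.Agent.GeomRed
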