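import Groth.Agent.Lib.GeomIrr18.Alg
import Mathlib.RingTheory.Nilpotent.GeometricallyReduced
import Mathlib.RingTheory.Localization.BaseChange
import Mathlib.RingTheory.Ideal.GoingUp
import Mathlib.RingTheory.Nilpotent.Basic
import Mathlib.LinearAlgebra.TensorProduct.Basis
import Mathlib.RingTheory.IntegralClosure.IsIntegralClosure.Basic

/-!
Reducedness of base changes of localisations to field extensions.
-/

universe u

open TensorProduct

namespace Groth.Agent.GeomRed

theorem isReduced_iff_sq {R : Type*} [MonoidWithZero R] : IsReduced R ↔ ∀ b : R, b * b = 0 → b = 0 := by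
  rw [isReduced_iff_pow_one_lt 2 one_lt_two]
  exact forall_congr' fun b => by rw [pow_two]

/-- When a localisation at a prime is reduced. -/
theorem isReduced_atPrime_iff {B : Type*} [CommRing B] (q : Ideal B) [q.IsPrime] (L : Type*) [CommRing L] [Algebra B L]
    [IsLocalization.AtPrime L q] : IsReduced L ↔ ∀ b : B, b * b = 0 → ∃ v ∉ q, v * b = 0 := by
  rw [isReduced_iff_sq]
  constructor
  · intro h b hb
    obtain ⟨v, hv⟩ := (IsLocalization.map_eq_zero_iff q.primeCompl L b).mp (h (algebraMap B L b) (by rw [← map_mul, hb, map_zero]))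
    exact ⟨v, v.2, hv⟩
  · intro h c hc
    obtain ⟨⟨b, s⟩, hs⟩ := IsLocalization.surj q.primeCompl c
    dsimp at hs
    obtain ⟨u, hu⟩ := (IsLocalization.map_eq_zero_iff q.primeCompl L (b * b)).mp (by
      rw [map_mul, ← hs, mul_mul_mul_comm, hc, zero_mul])
    obtain ⟨v, hv, hvb⟩ := h ((u : B) * b) (by rw [mul_mul_mul_comm, mul_assoc, hu, mul_zero])
    have h1 : algebraMap B L b = 0 :=
      (IsLocalization.map_eq_zero_iff q.primeCompl L b).mpr ⟨⟨v * u, q.primeCompl.mul_mem hv u.2⟩, by
        change v * u * b = 0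
        rw [mul_assoc, hvb]⟩
    rw [h1] at hs
    exact (IsLocalization.map_units L s).mul_left_eq_zero.mp hs

variable (k : Type u) [Field k] {A : Type u} [CommRing A] [Algebra k A] (S : Submonoid A) (K : Type u) [CommRing K] [Algebra k K]

/-- The base change of the localisation is reduced, expressed without the localisation. -/
def RedAway : Prop := ∀ b : A ⊗[k] K, b * b = 0 → ∃ s ∈ S, (s ⊗ₜ[k] (1 : K)) * b = 0

variable {k S K}

theorem RedAway.mono {T : Submonoid A} (h : RedAway k S K) (hST : S ≤ T) : RedAway k T K := fun b hb =>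
  (h b hb).imp fun _ hs => ⟨hST hs.1, hs.2⟩

variable (k S K)

/-- The base change of a localisation. -/
theorem isReduced_tensor_iff (L : Type u) [CommRing L] [Algebra A L] [IsLocalization S L] [Algebra k L] [IsScalarTower k A L] :
    IsReduced (L ⊗[k] K) ↔ RedAway k S K := by
  let g := AlgebraTensorModule.rTensor k K (Algebra.linearMap A L)
  let φ := Algebra.TensorProduct.map (IsScalarTower.toAlgHom k A L) (AlgHom.id k K)
  have hgφ : ∀ b, g b = φ b := fun b => by
    induction b using TensorProduct.induction_on with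
    | zero => simp
    | tmul a c => simp [g, φ]
    | add x y hx hy => simp [map_add, hx, hy]
  have hsmul : ∀ (s : A) (b : A ⊗[k] K), s • b = (s ⊗ₜ[k] (1 : K)) * b := fun s b => by
    rw [Algebra.smul_def, Algebra.TensorProduct.algebraMap_apply]
    rfl
  have hunit : ∀ s : S, IsUnit (φ ((s : A) ⊗ₜ[k] (1 : K))) := fun s => by
    have : φ ((s : A) ⊗ₜ[k] (1 : K)) = (Algebra.TensorProduct.includeLeft : L →ₐ[k] L ⊗[k] K) (algebraMap A L s) := rfl
    rw [this]
    exact (IsLocalization.map_units L s).map _
  haveI : IsLocalizedModule S g := inferInstanceAs (IsLocalizedModule S (AlgebraTensorModule.rTensor k K (Algebra.linearMap A L)))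
  rw [isReduced_iff_sq]
  constructor
  · intro h b hb
    have h1 : g b = 0 := (hgφ b).trans (h (φ b) (by rw [← map_mul, hb, map_zero]))
    obtain ⟨s, hs⟩ := (IsLocalizedModule.eq_zero_iff S g).mp h1
    exact ⟨s, s.2, by rw [← hsmul]; exact hs⟩
  · intro h c hc
    obtain ⟨⟨b, s⟩, hbs⟩ := IsLocalizedModule.surj S g c
    have hb : φ b = φ ((s : A) ⊗ₜ[k] (1 : K)) * c := by
      rw [← hgφ]
      refine hbs.symm.trans ?_
      change (s : A) • c = _
      rw [Algebra.smul_def, Algebra.TensorProduct.algebraMap_apply]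
      rfl
    obtain ⟨t, ht⟩ := (IsLocalizedModule.eq_zero_iff S g).mp (show g (b * b) = 0 by
      rw [hgφ, map_mul, hb, mul_mul_mul_comm, hc, mul_zero])
    change (t : A) • (b * b) = 0 at ht
    rw [hsmul] at ht
    obtain ⟨u, hu, hub⟩ := h (((t : A) ⊗ₜ[k] (1 : K)) * b) (by rw [mul_mul_mul_comm, mul_assoc, ht, mul_zero])
    have h0 := congrArg φ hub
    rw [map_mul, map_mul, map_zero, hb] at h0
    rw [(hunit ⟨u, hu⟩).mul_right_eq_zero, (hunit t).mul_right_eq_zero, (hunit s).mul_right_eq_zero] at h0
    exact h0

/-- For an algebraic extension the primes over a given prime detect reducedness near it. -/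
theorem redAway_of_primesOver [Algebra.IsIntegral k K] (p : Ideal A) [p.IsPrime]
    (h : ∀ q : Ideal (A ⊗[k] K), q.IsPrime → q.comap (algebraMap A (A ⊗[k] K)) = p →
      ∀ b, b * b = 0 → ∃ v ∉ q, v * b = 0) : RedAway k p.primeCompl K := by
  intro b hb
  haveI : Algebra.IsIntegral A (A ⊗[k] K) := inferInstance
  by_contra hn
  push Not at hn
  let J : Ideal (A ⊗[k] K) := LinearMap.ker (LinearMap.toSpanSingleton (A ⊗[k] K) (A ⊗[k] K) b)
  have hJ : J.comap (algebraMap A (A ⊗[k] K)) ≤ p := fun a ha => by
    by_contra hap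
    refine hn a hap ?_
    have h1 : algebraMap A (A ⊗[k] K) a • b = 0 := ha
    simpa [Algebra.TensorProduct.algebraMap_apply, smul_eq_mul] using h1
  obtain ⟨q, hqJ, hq, hqp⟩ := Ideal.exists_ideal_over_prime_of_isIntegral p J hJ
  obtain ⟨v, hv, hvb⟩ := h q hq hqp b hb
  exact hv (hqJ (show v ∈ J from (smul_eq_mul v b).trans hvb))

/-- A finitely generated reduced algebra over an algebraically closed field stays reduced. -/
theorem isReduced_tensor_of_isAlgClosed {k : Type u} [Field k] [IsAlgClosed k] (A : Type u) [CommRing A] [Algebra k A]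
    [IsReduced A] [Algebra.FiniteType k A] (K : Type u) [Field K] [Algebra k K] : IsReduced (A ⊗[k] K) := by
  rw [isReduced_iff_sq]
  intro z hz
  let β := Module.Basis.ofVectorSpace k K
  obtain ⟨c, rfl⟩ := TensorProduct.eq_repr_basis_right β z
  suffices h : ∀ i, c i = 0 by simp [Finsupp.sum, h]
  intro i
  have h1 : ∀ φ : A →ₐ[k] k, φ (c i) = 0 := by
    intro φ
    let Φ : A ⊗[k] K →ₐ[k] K := Algebra.TensorProduct.lift ((Algebra.ofId k K).comp φ) (AlgHom.id k K) (fun _ _ => Commute.all _ _)
    have h0 : Φ (c.sum fun i m => m ⊗ₜ[k] β i) = 0 := by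
      have := congrArg Φ hz
      rwa [map_mul, map_zero, mul_self_eq_zero] at this
    have h2 : ∑ j ∈ c.support, φ (c j) • β j = 0 := by
      rw [← h0, Finsupp.sum, map_sum]
      refine Finset.sum_congr rfl fun j _ => ?_
      simp [Φ, Algebra.smul_def]
    by_cases hi : i ∈ c.support
    · exact linearIndependent_iff'.mp β.linearIndependent c.support _ h2 i hi
    · rw [Finsupp.notMem_support_iff.mp hi, map_zero]
  refine (isNilpotent_iff_eq_zero.mp ?_ : c i = 0)
  rw [nilpotent_iff_mem_prime]
  intro P hP
  haveI := hP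
  haveI : Algebra.FiniteType k (A ⧸ P) := Algebra.FiniteType.of_surjective (Ideal.Quotient.mkₐ k P) Ideal.Quotient.mk_surjective
  exact Ideal.Quotient.eq_zero_iff_mem.mp (GeomIrr.eq_zero_of_forall_algHom (k := k) (A := A ⧸ P)
    (a := Ideal.Quotient.mk P (c i)) fun φ => h1 (φ.comp (Ideal.Quotient.mkₐ k P)))

/-- Over an algebraically closed field any reduced algebra stays reduced. -/
theorem isReduced_tensor_of_isAlgClosed' {k : Type u} [Field k] [IsAlgClosed k] (A : Type u) [CommRing A] [Algebra k A]
    [IsReduced A] (K : Type u) [Field K] [Algebra k K] : IsReduced (A ⊗[k] K) := by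
  haveI : IsReduced (K ⊗[k] A) := IsReduced.tensorProduct_of_flat_of_forall_fg fun D hD => by
    haveI : Algebra.FiniteType k D := (Subalgebra.fg_iff_finiteType D).1 hD
    haveI : IsReduced D := isReduced_of_injective D.val Subtype.val_injective
    haveI := isReduced_tensor_of_isAlgClosed (k := k) (↥D) K
    exact isReduced_of_injective (Algebra.TensorProduct.comm k K D).toAlgHom (Algebra.TensorProduct.comm k K D).injective
  exact isReduced_of_injective (Algebra.TensorProduct.comm k A K).toAlgHom (Algebra.TensorProduct.comm k A K).injective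

/-- A geometrically reduced algebra stays reduced over every field extension. -/
theorem isReduced_tensor_field (k : Type u) [Field k] (K : Type u) [Field K] [Algebra k K] (A : Type u) [CommRing A] [Algebra k A] [Algebra.IsGeometricallyReduced k A] :
    IsReduced (A ⊗[k] K) := by
  let L := AlgebraicClosure K
  let kb := AlgebraicClosure k
  letI : Algebra kb L := (IsAlgClosed.lift (R := k) (S := kb) (M := L)).toAlgebra
  haveI : IsScalarTower k kb L :=
    IsScalarTower.of_algebraMap_eq' (IsAlgClosed.lift (R := k) (S := kb) (M := L)).comp_algebraMap.symm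
  haveI : IsReduced (kb ⊗[k] A) := (Algebra.isGeometricallyReduced_field_iff k A).mp inferInstance
  haveI := isReduced_tensor_of_isAlgClosed' (k := kb) (kb ⊗[k] A) L
  haveI : IsReduced (L ⊗[kb] (kb ⊗[k] A)) :=
    isReduced_of_injective (Algebra.TensorProduct.comm kb L (kb ⊗[k] A)).toAlgHom (Algebra.TensorProduct.comm kb L (kb ⊗[k] A)).injective
  haveI : IsReduced (L ⊗[k] A) :=
    isReduced_of_injective (Algebra.TensorProduct.cancelBaseChange k kb L L A).symm.toAlgHom
      (Algebra.TensorProduct.cancelBaseChange k kb L L A).symm.injective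
  haveI : IsReduced (K ⊗[k] A) :=
    isReduced_of_injective (Algebra.TensorProduct.map (IsScalarTower.toAlgHom k K L) (AlgHom.id k A))
      (Module.Flat.rTensor_preserves_injective_linearMap _ (RingHom.injective _))
  exact isReduced_of_injective (Algebra.TensorProduct.comm k A K).toAlgHom (Algebra.TensorProduct.comm k A K).injective

theorem isGeometricallyReduced_iff (A : Type u) [CommRing A] [Algebra k A] :
    Algebra.IsGeometricallyReduced k A ↔ IsReduced (A ⊗[k] AlgebraicClosure k) := by
  rw [Algebra.isGeometricallyReduced_field_iff]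
  exact ⟨fun h => isReduced_of_injective (Algebra.TensorProduct.comm k A _).toAlgHom (Algebra.TensorProduct.comm k A _).injective,
    fun h => isReduced_of_injective (Algebra.TensorProduct.comm k _ A).toAlgHom (Algebra.TensorProduct.comm k _ A).injective⟩

end Groth.Agent.GeomRed
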