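import Groth.Agent.Lib.GeomRed18.Apps
import Groth.Agent.Lib.GeomIrr18.Alg
import Mathlib.RingTheory.Spectrum.Prime.Homeomorph

/-!
More on geometric reducedness and integrality.
-/

universe u

open CategoryTheory Limits AlgebraicGeometry TensorProduct

namespace Groth.Agent.GeomRed

/-- A geometrically reduced algebra tensored with a reduced algebra is reduced. -/
theorem isReduced_tensor_of_reduced (k : Type u) [Field k] (A B : Type u) [CommRing A] [CommRing B] [Algebra k A]
    [Algebra k B] [Algebra.IsGeometricallyReduced k A] [_root_.IsReduced B] : _root_.IsReduced (A ⊗[k] B) := by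
  haveI : _root_.IsReduced (B ⊗[k] A) := by
    rw [isReduced_iff_sq]
    intro z hz
    let β := Module.Basis.ofVectorSpace k A
    obtain ⟨c, rfl⟩ := TensorProduct.eq_repr_basis_right β z
    suffices hc : ∀ j, c j = 0 by simp [Finsupp.sum, hc]
    refine fun j => (isNilpotent_iff_eq_zero.mp ?_ : c j = 0)
    rw [nilpotent_iff_mem_prime]
    intro P hP
    let F := P.ResidueField
    let φ : B →ₐ[k] F := IsScalarTower.toAlgHom k B F
    haveI := isReduced_tensor_field k F A
    haveI : _root_.IsReduced (F ⊗[k] A) :=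
      isReduced_of_injective (Algebra.TensorProduct.comm k F A).toAlgHom (Algebra.TensorProduct.comm k F A).injective
    let Φ := Algebra.TensorProduct.map φ (AlgHom.id k A)
    have h0 : Φ (c.sum fun i m => m ⊗ₜ[k] β i) = 0 :=
      isReduced_iff_sq.mp inferInstance _ (by rw [← map_mul, hz, map_zero])
    have h1 : (c.mapRange φ (map_zero _)).sum (fun i m => m ⊗ₜ[k] β i) = 0 := by
      rw [Finsupp.sum_mapRange_index (h := fun j (m : F) => m ⊗ₜ[k] β j) (fun _ => zero_tmul _ _), ← h0, map_finsuppSum]
      rfl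
    have h2 := DFunLike.congr_fun (TensorProduct.sum_tmul_basis_right_eq_zero β _ h1) j
    exact Ideal.algebraMap_residueField_eq_zero.mp h2
  exact isReduced_of_injective (Algebra.TensorProduct.comm k A B).toAlgHom (Algebra.TensorProduct.comm k A B).injective

/-- A separable algebraic change of the base does not create nilpotents. -/
theorem isReduced_tensor_change {k k' L A : Type u} [Field k] [Field k'] [Algebra k k'] [Algebra.IsSeparable k k']
    [Field L] [Algebra k L] [Algebra k' L] [IsScalarTower k k' L]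
    [CommRing A] [Algebra k A] [Algebra k' A] [IsScalarTower k k' A] [_root_.IsReduced (L ⊗[k] A)] :
    _root_.IsReduced (L ⊗[k'] A) := by
  let q : L ⊗[k] A →ₐ[k] L ⊗[k'] A := Algebra.TensorProduct.lift
    ((Algebra.TensorProduct.includeLeft : L →ₐ[k'] L ⊗[k'] A).restrictScalars k)
    ((Algebra.TensorProduct.includeRight : A →ₐ[k'] L ⊗[k'] A).restrictScalars k) (fun _ _ => Commute.all _ _)
  have hq : ∀ l a, q (l ⊗ₜ[k] a) = l ⊗ₜ[k'] a := fun l a => by simp [q]
  -- multipliers which become `1` over `k'`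
  have mult : ∀ c : k', ∃ e : L ⊗[k] A, q e = 1 ∧ e * (algebraMap k' L c ⊗ₜ[k] 1 - 1 ⊗ₜ[k] algebraMap k' A c) = 0 := by
    intro c
    let g := minpoly k c
    have hg : g.derivative.aeval c ≠ 0 :=
      (Algebra.IsSeparable.isSeparable k c).aeval_derivative_ne_zero (minpoly.aeval k c)
    let u : L ⊗[k] A := algebraMap k' L c ⊗ₜ[k] 1
    let v : L ⊗[k] A := 1 ⊗ₜ[k] algebraMap k' A c
    let G := (g.map (algebraMap k (L ⊗[k] A)))
    -- the divided difference
    obtain ⟨h, hh⟩ : Polynomial.X - Polynomial.C v ∣ G := by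
      rw [Polynomial.dvd_iff_isRoot, Polynomial.IsRoot.def, Polynomial.eval_map, ← Polynomial.aeval_def]
      change g.aeval ((Algebra.TensorProduct.includeRight : A →ₐ[k] L ⊗[k] A) ((IsScalarTower.toAlgHom k k' A) c)) = 0
      rw [Polynomial.aeval_algHom_apply, Polynomial.aeval_algHom_apply, minpoly.aeval, map_zero, map_zero]
    have hu : G.eval u = 0 := by
      rw [Polynomial.eval_map, ← Polynomial.aeval_def]
      change g.aeval ((Algebra.TensorProduct.includeLeft : L →ₐ[k] L ⊗[k] A) ((IsScalarTower.toAlgHom k k' L) c)) = 0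
      rw [Polynomial.aeval_algHom_apply, Polynomial.aeval_algHom_apply, minpoly.aeval, map_zero, map_zero]
    have h0 : h.eval u * (u - v) = 0 := by
      rw [hh, Polynomial.eval_mul, Polynomial.eval_sub, Polynomial.eval_X, Polynomial.eval_C] at hu
      rw [mul_comm, hu]
    have hquv : q u = q v := by
      simp only [u, v, hq]
      rw [Algebra.algebraMap_eq_smul_one, Algebra.algebraMap_eq_smul_one, TensorProduct.smul_tmul]
    have hd : q (h.eval u) = algebraMap k' (L ⊗[k'] A) (g.derivative.aeval c) := by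
      have e1 : G.derivative.eval v = h.eval v := by
        rw [hh, Polynomial.derivative_mul]
        simp
      have e2 : q (h.eval u) = q (h.eval v) := by
        change q.toRingHom (h.eval u) = q.toRingHom (h.eval v)
        rw [← Polynomial.eval₂_at_apply q.toRingHom u, ← Polynomial.eval₂_at_apply q.toRingHom v]
        exact congrArg (fun w => Polynomial.eval₂ q.toRingHom w h) hquv
      rw [e2, ← e1]
      simp only [G, Polynomial.derivative_map, Polynomial.eval_map, ← Polynomial.aeval_def]
      rw [← Polynomial.aeval_algHom_apply]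
      have hv : q v = (IsScalarTower.toAlgHom k k' (L ⊗[k'] A)) c := by
        rw [← hquv]
        simp [u, hq, Algebra.TensorProduct.algebraMap_apply]
      rw [hv, Polynomial.aeval_algHom_apply]
      rfl
    refine ⟨h.eval u * ((algebraMap k' L (g.derivative.aeval c)⁻¹) ⊗ₜ[k] 1), ?_, ?_⟩
    · rw [map_mul, hd, hq]
      rw [show (algebraMap k' L (g.derivative.aeval c)⁻¹) ⊗ₜ[k'] (1 : A) = algebraMap k' (L ⊗[k'] A) (g.derivative.aeval c)⁻¹ from rfl,
        ← map_mul, mul_inv_cancel₀ hg, map_one]
    · rw [mul_right_comm, h0, zero_mul]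
  let J : AddSubgroup (L ⊗[k] A) :=
    { carrier := {z | ∃ e, q e = 1 ∧ e * z = 0}
      zero_mem' := ⟨1, map_one q, mul_zero _⟩
      add_mem' := fun {a b} ⟨e, he, hea⟩ ⟨e', he', heb⟩ => ⟨e * e', by rw [map_mul, he, he', one_mul], by
        rw [mul_add, mul_assoc, mul_assoc, heb, mul_zero, add_zero, mul_left_comm, hea, mul_zero]⟩
      neg_mem' := fun {a} ⟨e, he, hea⟩ => ⟨e, he, by rw [mul_neg, hea, neg_zero]⟩ }
  let bil : L →+ A →+ (L ⊗[k] A) ⧸ J :=
    AddMonoidHom.mk' (fun l => (QuotientAddGroup.mk' J).comp ((TensorProduct.mk k L A l).toAddMonoidHom))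
      (fun l l' => by ext a; simp [TensorProduct.add_tmul])
  let ψ : L ⊗[k'] A →+ (L ⊗[k] A) ⧸ J := TensorProduct.liftAddHom bil fun c l a => by
    refine (QuotientAddGroup.eq_iff_sub_mem).mpr ?_
    obtain ⟨e, he, he0⟩ := mult c
    refine ⟨e, he, ?_⟩
    have : (c • l) ⊗ₜ[k] a - l ⊗ₜ[k] (c • a) =
        (algebraMap k' L c ⊗ₜ[k] 1 - 1 ⊗ₜ[k] algebraMap k' A c) * (l ⊗ₜ[k] a) := by
      simp [sub_mul, Algebra.smul_def]
    change e * ((c • l) ⊗ₜ[k] a - l ⊗ₜ[k] (c • a)) = 0
    rw [this, ← mul_assoc, he0, zero_mul]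
  have hψ : ∀ z, ψ (q z) = QuotientAddGroup.mk z := fun z => by
    induction z using TensorProduct.induction_on with
    | zero => simp
    | tmul l a => rw [hq]; exact TensorProduct.liftAddHom_tmul _ _ _ _
    | add x y hx hy => rw [map_add, map_add, hx, hy]; rfl
  have hsurj : Function.Surjective q := fun z => by
    induction z using TensorProduct.induction_on with
    | zero => exact ⟨0, map_zero q⟩
    | tmul l a => exact ⟨l ⊗ₜ[k] a, hq l a⟩
    | add x y hx hy =>
      obtain ⟨x', rfl⟩ := hx
      obtain ⟨y', rfl⟩ := hy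
      exact ⟨x' + y', map_add q _ _⟩
  rw [isReduced_iff_sq]
  intro w hw
  obtain ⟨z, rfl⟩ := hsurj w
  obtain ⟨e, he, hez⟩ : z * z ∈ J :=
    (QuotientAddGroup.eq_zero_iff _).mp (by rw [← hψ, map_mul, hw, map_zero])
  have h1 : e * z = 0 := isReduced_iff_sq.mp inferInstance _ (by rw [mul_mul_mul_comm, mul_assoc, hez, mul_zero])
  rw [← one_mul (q z), ← he, ← map_mul, h1, map_zero]

end Groth.Agent.GeomRed

namespace Groth.Agent.GeomRed

attribute [local instance] Curv2.stalkAlgebra secAlgebra

/-- A purely inseparable base change is injective on points. -/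
theorem injective_bcFst {k : Type u} [Field k] {X : Scheme.{u}} [X.Over (Spec (CommRingCat.of k))]
    (P : Type u) [Field P] [Algebra k P] [IsPurelyInseparable k P] : Function.Injective (Curv2.bcFst k X P) := by
  intro z z' h
  obtain ⟨W, hW, hz, -⟩ := exists_isAffineOpen_mem_and_subset (X := X) (x := Curv2.bcFst k X P z) (U := ⊤) trivial
  obtain ⟨ι, hι, hfst, hr⟩ := exists_chart (k := k) hW P
  obtain ⟨q, rfl⟩ : z ∈ Set.range ι := hr.ge hz
  obtain ⟨q', rfl⟩ : z' ∈ Set.range ι := hr.ge (show Curv2.bcFst k X P z' ∈ W from h ▸ hz)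
  rw [hfst, hfst] at h
  exact congrArg ι ((PrimeSpectrum.isHomeomorph_comap_of_isPurelyInseparable k P Γ(X, W)).injective
    (hW.fromSpec.isOpenEmbedding.injective h))

end Groth.Agent.GeomRed
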