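import Groth.Agent.Lib.GeomRed18.More

/-!
Pointwise integrality and products.
-/

universe u

open CategoryTheory Limits AlgebraicGeometry TensorProduct

namespace Groth.Agent.GeomRed

attribute [local instance] Curv2.stalkAlgebra secAlgebra

theorem stalk_congr_isDomain {Y Z : Scheme.{u}} (ι : Y ⟶ Z) [IsOpenImmersion ι] (y : Y) :
    IsDomain (Z.presheaf.stalk (ι y)) ↔ IsDomain (Y.presheaf.stalk y) :=
  (asIso (ι.stalkMap y)).commRingCatIsoToRingEquiv.toMulEquiv.isDomain_iff

/-- When a localisation at a prime is a domain. -/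
theorem isDomain_atPrime {B : Type*} [CommRing B] (q : Ideal B) [q.IsPrime] (L : Type*) [CommRing L] [Algebra B L]
    [IsLocalization.AtPrime L q] (h : ∀ b c : B, b * c = 0 → ∃ v ∉ q, v * b = 0 ∨ v * c = 0) : IsDomain L := by
  haveI : Nontrivial L := IsLocalization.AtPrime.nontrivial L q
  suffices NoZeroDivisors L from NoZeroDivisors.to_isDomain _
  refine ⟨fun {a a'} haa => ?_⟩
  obtain ⟨⟨b, s⟩, hs⟩ := IsLocalization.surj q.primeCompl a
  obtain ⟨⟨c, t⟩, ht⟩ := IsLocalization.surj q.primeCompl a'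
  dsimp at hs ht
  obtain ⟨u, hu⟩ := (IsLocalization.map_eq_zero_iff q.primeCompl L (b * c)).mp (by
    rw [map_mul, ← hs, ← ht, mul_mul_mul_comm, haa, zero_mul])
  obtain ⟨v, hv, hvb⟩ := h ((u : B) * b) c (by rw [mul_assoc, hu])
  rcases hvb with h1 | h1
  · refine Or.inl ((IsLocalization.map_units L s).mul_left_eq_zero.mp (hs.trans ?_))
    refine (IsLocalization.map_eq_zero_iff q.primeCompl L b).mpr ⟨⟨v * u, q.primeCompl.mul_mem hv u.2⟩, ?_⟩
    change v * u * b = 0
    rw [mul_assoc, h1]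
  · exact Or.inr ((IsLocalization.map_units L t).mul_left_eq_zero.mp (ht.trans
      ((IsLocalization.map_eq_zero_iff q.primeCompl L c).mpr ⟨⟨v, hv⟩, h1⟩)))

/-- Over an algebraically closed field domains stay domains at all points above. -/
theorem isDomain_stalk_bc {k : Type u} [Field k] [IsAlgClosed k] {X : Scheme.{u}} [X.Over (Spec (CommRingCat.of k))]
    (x : X) [IsDomain (X.presheaf.stalk x)] (K : Type u) [Field K] [Algebra k K] (z : ↥(Curv2.bc k X K))
    (hz : Curv2.bcFst k X K z = x) : IsDomain ((Curv2.bc k X K).presheaf.stalk z) := by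
  obtain ⟨W, hW, hx, -⟩ := exists_isAffineOpen_mem_and_subset (X := X) (x := x) (U := ⊤) trivial
  obtain ⟨ι, hι, hfst, hr⟩ := exists_chart (k := k) hW K
  haveI := hι
  obtain ⟨q, rfl⟩ : z ∈ Set.range ι := hr.ge (show Curv2.bcFst k X K z ∈ W from hz ▸ hx)
  rw [stalk_congr_isDomain]
  haveI : IsLocalization.AtPrime ((Spec.structureSheaf (Γ(X, W) ⊗[k] K)).presheaf.stalk q) q.asIdeal :=
    StructureSheaf.IsLocalization.to_stalk (Γ(X, W) ⊗[k] K) q
  refine (isDomain_atPrime q.asIdeal ((Spec.structureSheaf (Γ(X, W) ⊗[k] K)).presheaf.stalk q) fun b c hbc => ?_ : _)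
  letI := TopCat.Presheaf.algebra_section_stalk X.presheaf (⟨x, hx⟩ : W)
  haveI := hW.isLocalization_stalk ⟨x, hx⟩
  haveI : IsScalarTower k Γ(X, W) (X.presheaf.stalk x) := IsScalarTower.of_algebraMap_eq' (germ_comp_secMap hx).symm
  let L := X.presheaf.stalk x
  let S := (hW.primeIdealOf ⟨x, hx⟩).asIdeal.primeCompl
  haveI : IsDomain (L ⊗[k] K) := GeomIrr.isDomain_tensor L K
  let g := AlgebraTensorModule.rTensor k K (Algebra.linearMap Γ(X, W) L)
  haveI : IsLocalizedModule S g := inferInstanceAs (IsLocalizedModule S (AlgebraTensorModule.rTensor k K (Algebra.linearMap Γ(X, W) L)))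
  let φ := Algebra.TensorProduct.map (IsScalarTower.toAlgHom k Γ(X, W) L) (AlgHom.id k K)
  have hgφ : ∀ b, g b = φ b := fun b => by
    induction b using TensorProduct.induction_on with
    | zero => simp
    | tmul a c => simp [g, φ]
    | add x y hx hy => simp [map_add, hx, hy]
  have kill : ∀ b, φ b = 0 → ∃ v ∉ q.asIdeal, v * b = 0 := fun b hb => by
    obtain ⟨s, hs⟩ := (IsLocalizedModule.eq_zero_iff S g).mp ((hgφ b).trans hb)
    refine ⟨algebraMap Γ(X, W) (Γ(X, W) ⊗[k] K) s, fun hmem => s.2 ?_, ?_⟩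
    · have h1 : PrimeSpectrum.comap (algebraMap Γ(X, W) (Γ(X, W) ⊗[k] K)) q = hW.primeIdealOf ⟨x, hx⟩ :=
        hW.fromSpec.isOpenEmbedding.injective (((hfst q).symm.trans hz).trans (hW.fromSpec_primeIdealOf ⟨x, hx⟩).symm)
      exact h1 ▸ hmem
    · exact (Algebra.smul_def _ _).symm.trans hs
  rcases mul_eq_zero.mp (show φ b * φ c = 0 by rw [← map_mul, hbc, map_zero]) with h | h
  · exact (kill b h).imp fun v hv => ⟨hv.1, Or.inl hv.2⟩
  · exact (kill c h).imp fun v hv => ⟨hv.1, Or.inr hv.2⟩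

end Groth.Agent.GeomRed
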