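import Groth.Agent.Lib.GeomRed18.Scheme
import Groth.Agent.Lib.GeomRed18.Perfect
import Groth.Agent.Lib.Sep.Basic
import Mathlib.RingTheory.Algebraic.StronglyTranscendental

/-!
# Geometric reducedness and the Frobenius twist
-/

universe u
open TensorProduct CategoryTheory Limits AlgebraicGeometry

namespace Groth.Agent.GeomRed

/-- The base field seen as an algebra over itself through Frobenius. -/
def FrobK (k : Type u) (_p : ℕ) : Type u := k

variable (k : Type u) [Field k] (p : ℕ)

instance : Field (FrobK k p) := inferInstanceAs (Field k)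

variable [Fact p.Prime] [CharP k p]

noncomputable instance : Algebra k (FrobK k p) := RingHom.toAlgebra (frobenius k p : k →+* k)

theorem frobK_pow (c : FrobK k p) : ∃ a : k, algebraMap k (FrobK k p) a = c ^ p :=
  ⟨c, frobenius_def (R := k) p c⟩

instance : Algebra.IsAlgebraic k (FrobK k p) := ⟨fun c => by
  obtain ⟨a, ha⟩ := frobK_pow k p c
  refine ⟨Polynomial.X ^ p - Polynomial.C a, Polynomial.X_pow_sub_C_ne_zero (Fact.out : p.Prime).pos a, ?_⟩
  simp [ha]⟩

theorem powLI_of_isReduced_tensor (L : Type u) [Field L] [Algebra k L] [IsReduced (L ⊗[k] FrobK k p)] :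
    Sep.PowLI k L p := by
  classical
  intro s hs
  rw [linearIndepOn_finset_iff]
  intro c hc
  haveI : CharP (L ⊗[k] FrobK k p) p := charP_of_injective_algebraMap (algebraMap k (L ⊗[k] FrobK k p)).injective p
  let c' : L → FrobK k p := fun x => c x
  set y : L ⊗[k] FrobK k p := ∑ x ∈ s, x ⊗ₜ c' x with hy
  have hyp : y ^ p = 0 := by
    rw [hy, sum_pow_char]
    calc ∑ x ∈ s, (x ⊗ₜ[k] c' x) ^ p = ∑ x ∈ s, (c x • x ^ p) ⊗ₜ[k] (1 : FrobK k p) := by
          refine Finset.sum_congr rfl fun x _ => ?_
          rw [Algebra.TensorProduct.tmul_pow, TensorProduct.smul_tmul, Algebra.smul_def, mul_one]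
          rfl
      _ = 0 := by rw [← TensorProduct.sum_tmul, hc, zero_tmul]
  have h0 : y = 0 := IsNilpotent.eq_zero ⟨p, hyp⟩
  intro x hx
  let φ : (↥s → k) →ₗ[k] L := Fintype.linearCombination k (Subtype.val : ↥s → L)
  have hφ : Function.Injective φ := (show LinearIndependent k (Subtype.val : ↥s → L) from hs).fintypeLinearCombination_injective
  let w : (↥s → k) ⊗[k] FrobK k p := ∑ i : ↥s, Pi.single i (1 : k) ⊗ₜ c' i
  have hw : w = 0 := by
    refine Module.Flat.rTensor_preserves_injective_linearMap φ hφ ?_
    rw [map_zero, map_sum, ← h0, hy]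
    simp only [LinearMap.rTensor_tmul, φ, Fintype.linearCombination_apply_single, one_smul]
    exact Finset.sum_coe_sort s (fun x => x ⊗ₜ[k] c' x)
  have h2 := congrArg (fun v => TensorProduct.lid k (FrobK k p) ((LinearMap.proj (⟨x, hx⟩ : ↥s)).rTensor (FrobK k p) v)) hw
  simp only [w, map_sum, map_zero, LinearMap.rTensor_tmul, TensorProduct.lid_tmul, LinearMap.proj_apply] at h2
  rw [Finset.sum_eq_single (⟨x, hx⟩ : ↥s) (fun b _ hb => by rw [Pi.single_eq_of_ne hb.symm, zero_smul])
    (fun h => absurd (Finset.mem_univ _) h), Pi.single_eq_same, one_smul] at h2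
  exact h2

/-- Mac Lane: one Frobenius twist tests geometric reducedness. -/
theorem isGeometricallyReduced_of_frobK (A : Type u) [CommRing A] [Algebra k A]
    [h : IsReduced (A ⊗[k] FrobK k p)] : Algebra.IsGeometricallyReduced k A := by
  haveI : IsReduced A := isReduced_of_injective (Algebra.TensorProduct.includeLeftRingHom : A →+* A ⊗[k] FrobK k p)
    (Algebra.TensorProduct.includeLeft_injective (S := k) (algebraMap k (FrobK k p)).injective)
  rw [isGeometricallyReduced_iff]
  refine isReduced_tensor_of_detecting (AlgebraicClosure k) (fun q : minimalPrimes A =>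
      haveI := q.2.1.1
      Localization.AtPrime q.1)
    (fun q => haveI := q.2.1.1; IsScalarTower.toAlgHom k A (Localization.AtPrime q.1)) (fun a ha => ?_) fun q => ?_
  · refine IsNilpotent.eq_zero ((mem_nilradical (R := A)).1 ?_)
    rw [nilradical, ← Ideal.sInf_minimalPrimes, Submodule.mem_sInf]
    intro q hq
    haveI := hq.1.1
    obtain ⟨s, hs⟩ := (IsLocalization.map_eq_zero_iff (Ideal.primeCompl q) (Localization.AtPrime q) a).1 (ha ⟨q, hq⟩)
    exact (hq.1.1.mem_or_mem (hs ▸ q.zero_mem : (s : A) * a ∈ q)).resolve_left s.2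
  · haveI := q.2.1.1
    haveI : Ring.KrullDimLE 0 (Localization.AtPrime q.1) := .of_isLocalization _ q.2 _
    letI : Field (Localization.AtPrime q.1) := Ring.KrullDimLE.isField_of_isReduced.toField
    haveI : IsReduced (Localization.AtPrime q.1 ⊗[k] FrobK k p) :=
      (isReduced_tensor_iff k q.1.primeCompl (FrobK k p) (Localization.AtPrime q.1)).2 fun b hb =>
        ⟨1, one_mem _, by rw [IsNilpotent.eq_zero (x := b) ⟨2, by rw [sq, hb]⟩, mul_zero]⟩
    haveI : CharP (Localization.AtPrime q.1) p := charP_of_injective_algebraMap (algebraMap k (Localization.AtPrime q.1)).injective p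
    haveI := Sep.isGeometricallyReduced_of_powLI (p := p) (h := powLI_of_isReduced_tensor k p (Localization.AtPrime q.1))
    exact isReduced_tensor_field k _ _

attribute [local instance] Curv2.stalkAlgebra

variable (X : Scheme.{u}) [X.Over (Spec (CommRingCat.of k))]

theorem geometricallyReduced_iff_frobK :
    GeometricallyReduced (X ↘ Spec (CommRingCat.of k)) ↔ IsReduced (Curv2.bc k X (FrobK k p)) := by
  refine ⟨fun h => GeometricallyReduced.geometrically_isReduced
    (f := X ↘ Spec (CommRingCat.of k)) _ _ _ (IsPullback.of_hasPullback _ _), fun h => ?_⟩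
  rw [geometricallyReduced_iff_forall]
  intro x
  rw [isGeomReducedAt_iff]
  haveI : _root_.IsReduced (X.presheaf.stalk x ⊗[k] FrobK k p) :=
    isReduced_tensor_of_points x _ fun z _ => inferInstance
  exact isGeometricallyReduced_of_frobK k p (X.presheaf.stalk x)

end Groth.Agent.GeomRed
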